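import Cfsg.Agent.Lib.UT.Main

/-!
Groups with Sylow 2-subgroups of type `U₃(2ⁿ)`, `n ≥ 3`: the classification.
-/

set_option autoImplicit false

namespace Cfsg.Lib.UT

open Subgroup Cfsg.Lib Cfsg.Lib.FT Cfsg.Lib.Big

universe u
variable {n : ℕ}

/-- the inductive statement -/
def CenNormal (n : ℕ) (G : Type*) [Group G] : Prop :=
  TU n G → pPrimeCore 2 G = ⊥ → (∃ a ∈ center G, orderOf a = 2) →
    ∀ S : Subgroup G, IsSylowIn 2 S ⊤ → S.Normal

section
variable {G : Type u} [Group G] [Finite G]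

theorem TU.solv_of (hG : TU n G) {a : G} (ha : orderOf a = 2) (ih : CenNormal n (C1[a] ⧸ oddCore C1[a])) :
    Group.IsSolvable C1[a] := by
  obtain ⟨S, Z, h1, h⟩ := hG.exists_ge (isPGroup_zpowers_of_orderOf ha)
  have h2 : S ≤ C1[a] := fun s hs =>
    mem_C1.2 (h.cen (h.mem.2 ⟨h1 (mem_zpowers a), BSW.mul_self_of_orderOf_two ha⟩) hs).symm
  obtain ⟨T, hT⟩ := exists_isSylowIn 2 (⊤ : Subgroup (C1[a] ⧸ oddCore C1[a]))
  have := ih (hG.subgroup h.syl h2).quot pPrimeCore_quotient_pPrimeCore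
    ⟨QuotientGroup.mk' _ ⟨a, mem_C1_self a⟩, mem_center_iff.2 fun g => by
      obtain ⟨g, rfl⟩ := QuotientGroup.mk'_surjective _ g
      rw [← map_mul, ← map_mul]
      exact congrArg _ (Subtype.ext (mem_C1.1 g.2)),
    orderOf_map_of_ker_coprime _ (by
      rw [QuotientGroup.ker_mk']; exact Nat.coprime_two_right.2 odd_card_oddCore)
      (by rw [← orderOf_coe, ha])⟩ T hT
  exact isSolvable_of_normal_quotient (oddCore _) (odd_order_solvable odd_card_oddCore)
    (isSolvable_of_normal_sylow hT)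

theorem US.normal_of {S Z : Subgroup G} (h : US n S Z) (hn : 3 ≤ n) (hO : pPrimeCore 2 G = ⊥)
    (hZ : N[Z] = ⊤) (ih : CenNormal n C[Z]) : S.Normal := by
  have := normalizer_eq_top_iff.1 hZ
  have h1 : S ≤ C[Z] := fun s hs => mem_centralizer_iff.2 fun z hz => h.cen hz hs
  obtain ⟨a, ha, h2⟩ := exists_mem_orderOf_eq_of_dvd (p := 2) (H := Z)
    (by rw [h.card]; exact dvd_pow_self 2 (by omega))
  have h3 := ih (h.tu.subgroup h.syl h1) (by
    rw [pPrimeCore_subgroup_eq_of_isSubnormal (Normal.isSubnormal inferInstance), hO, bot_subgroupOf])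
    ⟨⟨a, h1 (h.le ha)⟩, mem_center_iff.2 fun g => Subtype.ext (mem_centralizer_iff.1 g.2 a ha).symm,
      by rw [← orderOf_coe, h2]⟩ (S.subgroupOf C[Z]) (by
      rw [← subgroupOf_self]
      exact (isSylowIn_subgroupOf_iff h1 le_rfl).2 (h.syl.mono h1 le_top))
  have h4 := (h.syl.mono h1 le_top).le_sup_normalizer (H := ⊤) le_top le_normalizer_of_normal
  exact normalizer_eq_top_iff.1 (eq_top_iff.2 (h4.trans
    (sup_le (le_normalizer_of_normal_subgroupOf h1) inf_le_right)))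

end

theorem cenNormal (hn : 3 ≤ n) (G : Type u) [Group G] [Finite G] : CenNormal n G := by
  induction hN : Nat.card G using Nat.strong_induction_on generalizing G with | _ N ih => ?_
  rintro hG hO ⟨a, ha, ha2⟩ S hS
  obtain ⟨Z, h⟩ := hG.exists_us hS
  have hc : ∀ b ∈ center G, orderOf b = 2 → b ∈ Z := fun b hb h2 => h.mem.2
    ⟨hS.le_of_normalizes (isPGroup_zpowers_of_orderOf h2) le_top
      (fun s _ => centralizer_le_normalizer _
        (by rw [centralizer_zpowers]; exact mem_C1.2 (mem_center_iff.1 hb s)))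
      (mem_zpowers b), BSW.mul_self_of_orderOf_two h2⟩
  have : (Z ⊓ center G).Normal := ⟨fun x hx g => by
    rwa [mem_center_iff.1 hx.2 g, mul_inv_cancel_right]⟩
  have hk := QuotientGroup.ker_mk' (Z ⊓ center G)
  have hlt : ∀ H : Subgroup G, H ≠ ⊤ → Nat.card H < N := fun H hH => by
    have := pg_card_lt_of_lt (lt_top_iff_ne_top.2 hH)
    rwa [card_top, hN] at this
  have hq : Cq n Z (QuotientGroup.mk' (Z ⊓ center G)) := by
    refine ⟨hn, ⟨S, h⟩, QuotientGroup.mk'_surjective _, hk.le.trans inf_le_left, hk.le.trans inf_le_right,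
      IC.pPrimeCore_quotient_central hO (h.isPGroup.to_le inf_le_left)
        fun g _ => mem_centralizer_iff.2 fun z hz => (mem_center_iff.1 hz.2 g).symm, fun b hb => ?_⟩
    by_cases h1 : b ∈ center G
    · exact Or.inl (hk.ge ⟨hc b h1 hb, h1⟩)
    refine Or.inr (hG.solv_of hb (ih _ (lt_of_le_of_lt (Nat.le_of_dvd Nat.card_pos
      (card_quotient_dvd_card _)) (hlt _ fun e => h1 ?_)) _ rfl))
    exact mem_center_iff.2 fun g => mem_C1.1 (e.ge (mem_top g))
  by_cases h1 : Z ≤ (QuotientGroup.mk' (Z ⊓ center G)).ker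
  · exact hq.normal_of_ker_eq h1 h
  by_cases h2 : N[Z] = ⊤
  · refine h.normal_of hn hO h2 (ih _ (hlt _ fun e => h1 (hk.ge.trans' (le_inf le_rfl fun z hz => ?_))) _ rfl)
    exact mem_center_iff.2 fun g => (mem_centralizer_iff.1 (e.ge (mem_top g)) z hz).symm
  · have := hq.ker_eq_bot h1 h2
    rw [hk] at this
    exact absurd (mem_bot.1 (this.le ⟨hc a ha ha2, ha⟩)) (BSW.ne_one_of_orderOf_two ha2)

variable {G : Type u} [Group G] [Finite G]

theorem US.normal_or_se {S Z : Subgroup G} (h : US n S Z) (hn : 3 ≤ n) (hO : pPrimeCore 2 G = ⊥) :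
    S.Normal ∨ IsStronglyEmbedded N[Z] := by
  by_cases h2 : N[Z] = ⊤
  · exact Or.inl (h.normal_of hn hO h2 (cenNormal hn _))
  have hq : Cq n Z (MonoidHom.id G) := ⟨hn, ⟨S, h⟩, Function.surjective_id, by simp, by simp, hO,
    fun a ha => Or.inr (h.tu.solv_of ha (cenNormal hn _))⟩
  have := hq.se (fun e => by
    have h3 := card_le_of_le e
    rw [h.card, MonoidHom.ker_id, card_bot] at h3
    have := Nat.pow_le_pow_right two_pos hn
    omega) h2
  rw [map_id] at this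
  exact Or.inr this

theorem TU.isoPSU3 [IsSimpleGroup G] (hG : TU n G) (hn : 3 ≤ n) (hc : ¬ IsMulCommutative G) :
    IsoPSU3 G (2 ^ n) := by
  obtain ⟨S⟩ := (inferInstance : Nonempty (Sylow 2 G))
  have hS := IsSylowIn.of_sylow_top S
  obtain ⟨Z, h⟩ := hG.exists_us hS
  rcases h.normal_or_se hn (oddCore_eq_bot_of_simple hc) with h1 | h1
  · exact absurd (normalizer_eq_top_iff.2 h1) (normalizer_sylow_ne_top hc hS).2
  obtain ⟨m, hm, h2, -, h3⟩ := bender_suzuki' hc h1 S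
  have h4 : {x | x ∈ (S : Subgroup G) ∧ orderOf x = 2} = (Z : Set G) \ {1} := Set.ext fun x =>
    ⟨fun hx => ⟨h.mem.2 ⟨hx.1, BSW.mul_self_of_orderOf_two hx.2⟩, BSW.ne_one_of_orderOf_two hx.2⟩,
      fun hx => ⟨h.le hx.1, BSW.orderOf_two_of_mul_self hx.2 (h.sq_eq hx.1)⟩⟩
  rw [h4, Set.ncard_sdiff_singleton_of_mem (one_mem _), show (Z : Set G).ncard = 2 ^ n from h.card] at h2
  have h5 : n = m := Nat.pow_right_injective le_rfl (by
    change 2 ^ n = 2 ^ m
    rw [← Nat.sub_add_cancel (Nat.one_le_two_pow (n := n)), h2, Nat.sub_add_cancel Nat.one_le_two_pow])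
  subst h5
  rw [h.ut.card] at h3
  rcases h3 with h3 | h3 | h3
  · exact absurd h3.1 (Nat.pow_lt_pow_left (by norm_num) (by omega)).ne'
  · exact absurd h3.1 (Nat.pow_lt_pow_left (by norm_num) (by omega)).ne'
  · exact h3.2.2

theorem TU.classify (hG : TU n G) (hn : 3 ≤ n) (hO : pPrimeCore 2 G = ⊥) :
    (∃ S : Subgroup G, IsSylowIn 2 S ⊤ ∧ S.Normal) ∨
      ∃ N : Subgroup G, N.Normal ∧ Odd N.index ∧ IsoPSU3 N (2 ^ n) := by
  obtain ⟨S, hS⟩ := exists_isSylowIn 2 (⊤ : Subgroup G)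
  obtain ⟨Z, h⟩ := hG.exists_us hS
  refine (h.normal_or_se hn hO).imp (fun h1 => ⟨S, hS, h1⟩) fun h1 => ?_
  obtain ⟨L, h2, h3, h4, -, h5, -⟩ := bender_normal hO (not_pRankLE_iff.2 ⟨Z,
    ⟨⟨⟨fun a b => Subtype.ext (h.cen a.2 (h.le b.2))⟩⟩, fun a ha => by rw [sq, h.sq_eq ha]⟩,
    h.card ▸ Nat.pow_le_pow_right two_pos (by omega)⟩) h1
  refine ⟨L, h2, h5, (hG.subgroup hS ?_).isoPSU3 hn h4⟩
  obtain ⟨T, hT⟩ := exists_isSylowIn 2 L
  have h6 : IsSylowIn 2 T ⊤ := IsSylowIn.of_not_dvd_relIndex le_top hT.isPGroup (by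
    rw [relIndex_top_right, ← relIndex_mul_index hT.le, Nat.prime_two.dvd_mul, not_or]
    exact ⟨hT.not_dvd_relIndex, Nat.two_dvd_ne_zero.2 (Nat.odd_iff.1 h5)⟩)
  obtain ⟨k, -, rfl⟩ := h6.exists_conj hS
  exact map_conj_le_of_mem_normalizer hT.le (le_normalizer_of_normal (mem_top k))

theorem isUT_psu {F : Type*} [Field F] [Fintype F] (hF : Fintype.card F = 4 ^ n)
    (P : Sylow 2 (PSU 3 F (2 ^ n))) : IsUT n (P : Subgroup (PSU 3 F (2 ^ n))) := by
  classical
  obtain ⟨h2, τ, hq, hτ, hω, -⟩ := h9_u3_field hF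
  haveI := Fact.mk hτ
  obtain ⟨e⟩ := h9_u3_sylow_psu_equiv h2 hq hω P
  refine IsUT.map (P := U3S τ) ?_ e.symm
  have sq : ∀ x : U3S τ, x * x = 1 ↔ x.a = 0 := fun x => by
    rw [U3S.ext_iff, U3S.sq_a h2, U3S.sq_b h2]; simp
  let T : F →+ F := AddMonoidHom.id F + τ.toAddMonoidHom
  have hT : ∀ b, T b = b + τ b := fun _ => rfl
  have hr : T.range = T.ker := by
    refine le_antisymm ?_ fun k hk => ?_
    · rintro _ ⟨b, rfl⟩
      rw [AddMonoidHom.mem_ker, hT, hT, map_add, hτ]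
      linear_combination (b + τ b) * h2
    · obtain ⟨ω, hω⟩ := hω
      have ht : ω + τ ω ≠ 0 := fun h => hω (by linear_combination h - ω * h2)
      have hk' : τ k = k := by linear_combination (hT k).symm.trans hk - k * h2
      refine ⟨ω * k / (ω + τ ω), ?_⟩
      rw [hT, map_div₀, map_mul, map_add, hτ, hk', add_comm (τ ω) ω]
      field_simp
  have hK : Nat.card T.ker = 2 ^ n := by
    have h1 := T.ker.card_mul_index
    rw [AddSubgroup.index_ker, hr, Nat.card_eq_fintype_card (α := F), hF, ← _root_.sq,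
      show 4 = 2 ^ 2 from rfl, ← pow_mul, mul_comm, pow_mul] at h1
    exact Nat.pow_left_injective two_ne_zero h1
  choose s hs using U3S.exists_a hω h2
  refine ⟨fun z x hz => (U3S.comm_iff _ _).2 (by simp [(sq z).1 hz]), fun x => (sq _).2 (U3S.sq_a h2 x),
    fun x y => (sq _).2 (by simp), fun x y w hx h3 h4 => ?_, fun x z hx hz => ?_, ?_, ?_⟩
  · rw [U3S.comm_iff] at *
    have h5 : x.a ≠ 0 := fun e => hx ((sq x).2 e)
    apply mul_left_cancel₀ h5
    linear_combination y.a * h4 - w.a * h3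
  · have h5 : x.a ≠ 0 := fun e => hx ((sq x).2 e)
    have h6 : τ x.a ≠ 0 := by simpa using h5
    have h7 := U3S.fix_of_a h2 ((sq z).1 hz)
    obtain ⟨l, hl⟩ := FiniteField.isSquare_of_char_two
      (ringChar.eq_iff.2 ((CharP.charP_iff_prime_eq_zero Nat.prime_two).2 (by exact_mod_cast h2)))
      (z.b / (x.a * τ x.a))
    have h8 : τ l = l := by
      have h9 := congrArg τ hl
      rw [map_div₀, map_mul, map_mul, hτ, h7, mul_comm, hl] at h9
      have : (τ l - l) ^ 2 = 0 := by linear_combination -h9 + (l * l - τ l * l) * h2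
      exact sub_eq_zero.1 (pow_eq_zero_iff two_ne_zero |>.1 this)
    refine ⟨s (l * x.a), (U3S.comm_iff _ _).2 (by rw [hs, map_mul, h8]; ring), U3S.ext ?_ ?_⟩
    · rw [U3S.sq_a h2, (sq z).1 hz]
    · rw [U3S.sq_b h2, hs, map_mul, h8]
      rw [div_eq_iff (mul_ne_zero h5 h6)] at hl
      linear_combination -hl
  · rw [← hK]
    exact Nat.card_congr ⟨fun z => ⟨z.1.b, by
        have := z.1.h
        rwa [(sq _).1 z.2, zero_mul] at this⟩, fun k => ⟨U3S.cen k k.2, (sq _).2 rfl⟩,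
      fun z => Subtype.ext (U3S.ext ((sq _).1 z.2).symm rfl), fun _ => rfl⟩
  · rw [show 8 = 4 * 2 from rfl, mul_pow, ← hF, ← hK, ← Nat.card_eq_fintype_card, ← Nat.card_prod]
    refine Nat.card_congr ⟨fun x => (x.a, ⟨x.b - (s x.a).b, ?_⟩), fun p => ⟨p.1, p.2 + (s p.1).b, ?_⟩,
      fun x => U3S.ext rfl (by simp), fun p => Prod.ext rfl (Subtype.ext (by simp))⟩
    · have := (s x.a).h
      rw [hs] at this
      rw [AddMonoidHom.mem_ker, hT, map_sub]
      linear_combination x.h - this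
    · have := (s p.1).h
      rw [hs] at this
      rw [map_add]
      linear_combination this + (hT p.2).symm.trans p.2.2

end Cfsg.Lib.UT
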