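import Cfsg.Agent.Lib.Cor.Tools8
import Cfsg.Agent.Lib.Rank2.U34
import Cfsg.Agent.Lib.Cor.AbC

/-!
Groups with an abelian Sylow 2-subgroup all of whose involutions are squares.
-/

set_option autoImplicit false

namespace Cfsg.Lib.UT

open Subgroup Cfsg.Lib Cfsg.Lib.FT Cfsg.Lib.Big Cfsg.Lib.Bender

variable {G : Type*} [Group G] [Finite G]

/-- a group with a strongly embedded subgroup has one class of involutions -/
theorem exists_conj_of_se {M : Subgroup G} (hM : IsStronglyEmbedded M) {u v : G} (hu : orderOf u = 2)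
    (hv : orderOf v = 2) : ∃ g : G, g * u * g⁻¹ = v := by
  have h := se_of_isStronglyEmbedded hM
  have hu' := isInv_iff_orderOf.2 hu
  obtain ⟨a, ha⟩ := h.exists_mem_Dl hu' (mem_top u)
  obtain ⟨k, hk⟩ : ∃ k : G, k • a ≠ a := by
    by_contra hn
    push Not at hn
    obtain ⟨g, rfl⟩ := QuotientGroup.mk_surjective a
    refine hM.1 (eq_top_iff.2 fun x _ => ?_)
    simpa [mul_assoc] using smul_mk_iff.1 (hn (g * x * g⁻¹))
  obtain ⟨g, -, e⟩ := h.exists_conj_of_two (mem_Dl ha) (Dl.smul_mem (mem_Dl ha) (mem_top k)) hk.symm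
    (mem_top u) hu' (mem_top v) (isInv_iff_orderOf.2 hv)
  exact ⟨g, e⟩

/-- simple groups with abelian Sylow 2-subgroups and solvable involution centralizers -/
theorem elem_of_abelian_solvable [IsSimpleGroup G] (hG : ¬ IsMulCommutative G) (S : Sylow 2 G)
    (hS : IsMulCommutative (S : Subgroup G)) (hC : ∀ t : G, orderOf t = 2 → Group.IsSolvable C1[t]) :
    ∀ x ∈ (S : Subgroup G), x * x = 1 := by
  by_cases hr : PRankLE 2 2 G
  · obtain ⟨m, -, ⟨e⟩⟩ := isDih_of_card_four hG S (brauer_homocyclic hG S hS hr)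
    intro x hx
    have h1 : ∀ y : DihedralGroup m, y * y = 1 := by
      rintro (i | i)
      · have := hS.is_comm.comm (e.symm (.r i)) (e.symm (.sr 0))
        rw [← map_mul, ← map_mul, e.symm.injective.eq_iff] at this
        simp only [DihedralGroup.r_mul_sr, DihedralGroup.sr_mul_r, DihedralGroup.sr.injEq] at this
        rw [DihedralGroup.r_mul_r, DihedralGroup.one_def]
        congr 1
        linear_combination -this
      · simp
    have := congrArg e.symm (h1 (e ⟨x, hx⟩))
    simpa using congrArg Subtype.val this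
  have hc : ∀ t : G, orderOf t = 2 → IsPConstrained 2 C1[t] := fun t ht =>
    isPConstrained_of_isSolvable (hC t ht)
  have hS' := IsSylowIn.of_sylow_top S
  have key : ∀ P : Subgroup G, IsSylowIn 2 P ⊤ → ∀ t ∈ P, orderOf t = 2 → P = ppCoreOf 2 C1[t] := by
    intro P hP t htP ht
    obtain ⟨k, -, rfl⟩ := hS'.exists_conj hP
    have hcm : IsMulCommutative (k •ᶜ (S : Subgroup G) : Subgroup G) := isMulCommutative_conj_iff.2 hS
    have h1 := le_centralizer_singleton_of_comm hcm htP
    have h2 := hP.mono h1 le_top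
    have h3 : k •ᶜ (S : Subgroup G) ≤ ppCoreOf 2 C1[t] := (le_inf h1
      ((le_centralizer_iff_isMulCommutative.2 hcm).trans (centralizer_le inf_le_left))).trans
      (inf_centralizer_le_ppCoreOf (hc t ht) (isSylowIn_inf_ppCoreOf h2))
    refine (h2.maximal _ ?_ (ppCoreOf_le _ _) h3).symm
    rw [ppCoreOf_eq_of_eq_bot (by
      rw [← centralizerPPrimeCore_eq]; exact core_eq_bot_of_solvable hG hr hc ht)]
    exact isPGroup_piCoreOf_singleton 2 _
  obtain ⟨h1, h2⟩ := normalizer_sylow_ne_top hG hS'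
  have hM := stronglyEmbedded_of_ti (fun P Q hP hQ hne => by
    by_contra hb
    obtain ⟨t, ht, ht2⟩ := exists_mem_orderOf_eq_of_dvd
      (dvd_card_of_isPGroup_of_ne_bot (hP.isPGroup.to_le inf_le_left) hb)
    exact hne ((key P hP t ht.1 ht2).trans (key Q hQ t ht.2 ht2).symm)) hS' h1 h2
  obtain ⟨n, hn, h4, -, h | h | h⟩ := bender_suzuki' hG hM S
  · intro a ha
    by_cases h11 : a = 1
    · simp [h11]
    have := Set.eq_of_subset_of_ncard_le (s := {x | x ∈ (S : Subgroup G) ∧ orderOf x = 2})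
      (t := ((S : Subgroup G) : Set G) \ {1}) (fun x hx => ⟨hx.1, BSW.ne_one_of_orderOf_two hx.2⟩)
      (by rw [h4, Set.ncard_sdiff_singleton_of_mem (one_mem _), ← h.1]; rfl)
    exact BSW.mul_self_of_orderOf_two (this.ge ⟨ha, h11⟩).2
  · exact absurd hS h.2.1
  · exact absurd hS h.2.1

theorem isSolvable_of_npc (h : HasNormalPComplement 2 G) : Group.IsSolvable G := by
  obtain ⟨P, N, hN, hc⟩ := h
  have h1 : Odd (Nat.card N) := by rw [← hc.index_eq_card]; exact sylow_two_index_odd P
  refine isSolvable_of_normal_quotient N (odd_order_solvable h1) (isSolvable_of_isPGroup (p := 2) ?_)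
  obtain ⟨k, hk⟩ := IsPGroup.iff_card.1 P.isPGroup'
  exact IsPGroup.of_card (n := k) (by rw [← index_eq_card, hc.symm.index_eq_card, hk])

theorem isSolvable_of_normal_sylow {T : Subgroup G} (hT : IsSylowIn 2 T ⊤) [T.Normal] :
    Group.IsSolvable G := by
  obtain ⟨S, rfl⟩ := hT.exists_sylow_top
  exact isSolvable_of_normal_quotient (S : Subgroup G) (isSolvable_of_isPGroup S.isPGroup')
    (odd_order_solvable (by rw [← index_eq_card]; exact sylow_two_index_odd S))

theorem solvable_of_squares_aux (hO : pPrimeCore 2 G = ⊥) {T : Subgroup G} (hT : IsSylowIn 2 T ⊤)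
    (hc : IsMulCommutative T) (hsq : ∀ a ∈ T, a * a = 1 → ∃ u ∈ T, u * u = a)
    (hC : ∀ t : G, orderOf t = 2 → t ∈ center G ∨ Group.IsSolvable C1[t]) : Group.IsSolvable G := by
  by_contra hns
  have hF : fittingSubgroup G = pCore 2 G := fitting_eq_pCore_of_pPrimeCore_eq_bot 2 hO
  have hP : pCore 2 G ≤ T := hT.le_of_normalizes isPGroup_pCore le_top le_normalizer_of_normal
  have hTT := le_centralizer_iff_isMulCommutative.2 hc
  obtain ⟨K, hK⟩ : ∃ K : Subgroup G, IsComponent K := by
    by_contra h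
    push Not at h
    have := centralizer_fitting_le_iff_layer_eq_bot.2 (layer_eq_bot_iff.2 h)
    rw [hF] at this
    have e : T = pCore 2 G := le_antisymm ((hTT.trans (centralizer_le hP)).trans this) hP
    have : T.Normal := e ▸ inferInstance
    exact hns (isSolvable_of_normal_sylow hT)
  obtain ⟨S, rfl⟩ := hT.exists_sylow_top
  have hV := R2.isSylowIn_inf_of_isSubnormal S hK.isSubnormal
  have hVc : IsMulCommutative ((S : Subgroup G) ⊓ K : Subgroup G) := sft_comm_of_le hc inf_le_left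
  have h1 := inf_commutator_inf_center_eq_bot hV hVc
  rw [hK.commutator_self, inf_assoc (S : Subgroup G), inf_idem] at h1
  have h2 : K ⊓ C[K] = ⊥ := eq_bot_iff.2 (h1 ▸ le_inf (le_inf
    ((inf_centralizer_le_fitting_of_isSubnormal hK.isSubnormal).trans (hF.le.trans hP)) inf_le_left)
    inf_le_right)
  have hns' := hK.isQuasisimple.not_isSolvable
  have hs : IsSimpleGroup K := hK.isQuasisimple.isSimpleGroup_of_center_eq_bot (by
    rw [center_eq_subgroupOf_centralizer, ← inf_subgroupOf_left, h2, bot_subgroupOf])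
  have hV0 : (S : Subgroup G) ⊓ K ≠ ⊥ := hV.ne_bot (by
    by_contra h
    exact hns' (isSolvable_of_not_two_dvd h))
  have hn : (S : Subgroup G) ≤ N[K] := fun s hs => conj_eq_iff_mem_normalizer.1 (by
    refine ((hK.map_conj s).eq_or_commutator_eq_bot hK).resolve_right fun h => hV0 ?_
    refine eq_bot_iff.2 (h2 ▸ le_inf inf_le_right fun v hv => ?_)
    refine commutator_eq_bot_iff_le_centralizer.1 h ⟨v, hv.2, ?_⟩
    exact mul_inv_eq_iff_eq_mul.2 (comm_of_isMulCommutative hc hs hv.1))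
  obtain ⟨V, hVe⟩ := hV.exists_sylow'
  have hmem : ∀ x : K, x ∈ (V : Subgroup K) ↔ (x : G) ∈ (S : Subgroup G) := fun x => by
    rw [hVe, mem_subgroupOf]; exact ⟨fun h => h.1, fun h => ⟨h, x.2⟩⟩
  have hel := elem_of_abelian_solvable hK.isQuasisimple.not_isMulCommutative V
    ⟨⟨fun a b => Subtype.ext (Subtype.ext
      (comm_of_isMulCommutative hc ((hmem _).1 a.2) ((hmem _).1 b.2)))⟩⟩ fun t ht => by
    have ht' : orderOf (t : G) = 2 := by rw [orderOf_coe, ht]
    rcases hC t ht' with h | h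
    · exact absurd (mem_bot.1 (h2 ▸ ⟨t.2, center_le_centralizer _ h⟩)) (BSW.ne_one_of_orderOf_two ht')
    have h2 : Group.IsSolvable (C1[t].map K.subtype) := isSolvable_of_le (by
      rintro _ ⟨x, hx, rfl⟩
      exact mem_C1.2 (congrArg Subtype.val (mem_C1.1 hx))) h
    exact Group.isSolvable_of_surjective
      (f := (C1[t].equivMapOfInjective _ K.subtype_injective).symm.toMonoidHom) (MulEquiv.surjective _)
  refine hns' (isSolvable_of_npc (hasNormalPComplement_of_controls_fusion V fun x hx g hg =>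
    ⟨1, one_mem _, ?_⟩))
  have hx' := (hmem _).1 hx
  have hg' : (g : G) * x * (g : G)⁻¹ ∈ (S : Subgroup G) := (hmem _).1 hg
  have hS1 : IsSylowIn 2 (S : Subgroup G) (K ⊔ S) := hT.mono le_sup_right le_top
  have hgK : (g : G) ∈ K ⊔ S := mem_sup_left g.2
  obtain ⟨c, hc1, e⟩ := ((hS1.conj_of_mem_normalizer (le_normalizer hgK)).mono
    (L := (K ⊔ S) ⊓ C1[(g : G) * x * (g : G)⁻¹]) (le_inf (hS1.conj_of_mem_normalizer (le_normalizer hgK)).le
      (by rw [← conj_centralizer_singleton]; exact map_mono (le_centralizer_singleton_of_comm hc hx')))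
      inf_le_left).exists_conj
    (hS1.mono (le_inf le_sup_right (le_centralizer_singleton_of_comm hc hg')) inf_le_left)
  rw [conj_conj, conj_eq_iff_mem_normalizer] at e
  obtain ⟨u, hu, hux⟩ := hsq x hx' (congrArg Subtype.val (hel x hx))
  obtain ⟨k, hk, s, hs, hks⟩ := (mem_sup_of_le_normalizer hn).1 (mul_mem hc1.1 hgK)
  have h3 : c * g * u * (c * g)⁻¹ ∈ (S : Subgroup G) := (mem_normalizer_iff.1 e u).1 hu
  have h4 : c * g * u * (c * g)⁻¹ * u⁻¹ ∈ K := by
    rw [← hks, show k * s * u * (k * s)⁻¹ * u⁻¹ = k * ((s * u * s⁻¹) * k⁻¹ * u⁻¹) by group,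
      comm_of_isMulCommutative hc hs hu, mul_inv_cancel_right]
    exact mul_mem hk ((mem_normalizer_iff.1 (hn hu) _).1 (inv_mem hk))
  have h5 := congrArg Subtype.val (hel ⟨_, h4⟩ ((hmem _).2 (mul_mem h3 (inv_mem hu))))
  have h6 := comm_of_isMulCommutative hc h3 (inv_mem hu)
  have h7 := mem_C1.1 hc1.2
  refine Subtype.ext ?_
  change (g : G) * x * (g : G)⁻¹ = 1 * x * 1⁻¹
  change c * g * u * (c * g)⁻¹ * u⁻¹ * (c * g * u * (c * g)⁻¹ * u⁻¹) = 1 at h5
  rw [mul_assoc, ← mul_assoc u⁻¹, ← h6] at h5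
  have h8 : c * ((g : G) * (u * u) * (g : G)⁻¹) * c⁻¹ = u * u := by
    rw [← mul_inv_eq_one, ← h5]; group
  rw [hux, h7] at h8
  simpa using h8

/-- abelian Sylow 2-subgroup whose involutions are squares, involutions central or with solvable centralizer -/
theorem solvable_of_squares {T : Subgroup G} (hT : IsSylowIn 2 T ⊤)
    (hc : IsMulCommutative T) (hsq : ∀ a ∈ T, a * a = 1 → ∃ u ∈ T, u * u = a)
    (hC : ∀ t : G, orderOf t = 2 → t ∈ center G ∨ Group.IsSolvable C1[t]) : Group.IsSolvable G := by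
  have hf := QuotientGroup.mk'_surjective (oddCore G)
  have hk : Odd (Nat.card (QuotientGroup.mk' (oddCore G)).ker) := by
    rw [QuotientGroup.ker_mk']; exact odd_card_oddCore
  refine isSolvable_of_normal_quotient (oddCore G) (odd_order_solvable odd_card_oddCore) ?_
  have h1 := hT.map (QuotientGroup.mk' (oddCore G))
  rw [← MonoidHom.range_eq_map, MonoidHom.range_eq_top.2 hf] at h1
  refine solvable_of_squares_aux pPrimeCore_quotient_pPrimeCore h1 (map_isMulCommutative _ _) ?_ ?_
  · rintro _ ⟨a, ha, rfl⟩ h2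
    by_cases h3 : QuotientGroup.mk' (oddCore G) a = 1
    · exact ⟨1, one_mem _, by rw [h3, one_mul]⟩
    obtain ⟨b, hb, h4, h5⟩ := Cor.exists_lift_two hk (BSW.orderOf_two_of_mul_self h3 h2)
    obtain ⟨u, hu, e⟩ := hsq b (zpowers_le.2 ha hb) (BSW.mul_self_of_orderOf_two h4)
    exact ⟨_, mem_map_of_mem _ hu, by rw [← map_mul, e, h5]⟩
  · intro t ht
    obtain ⟨a, rfl⟩ := hf t
    obtain ⟨b, -, h4, h5⟩ := Cor.exists_lift_two hk ht
    rw [← h5]
    refine (hC b h4).imp (fun h => mem_center_iff.2 fun g => ?_) fun h => ?_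
    · obtain ⟨g, rfl⟩ := hf g
      rw [← map_mul, mem_center_iff.1 h, map_mul]
    · rw [Cor.c1_map_two hf hk h4]
      haveI := h
      exact Group.isSolvable_of_surjective ((QuotientGroup.mk' _).subgroupMap_surjective _)

end Cfsg.Lib.UT
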