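import Cfsg.Agent.Lib.UT.Homo
import Cfsg.Agent.Lib.InvChar.SylTools
import Cfsg.Agent.Lib.Core.Balance

/-!
Groups with Sylow 2-subgroups of type `U₃(2ⁿ)`, `n ≥ 3`.
-/

set_option autoImplicit false

namespace Cfsg.Lib.UT

open Subgroup Cfsg.Lib Cfsg.Lib.FT Cfsg.Lib.Big

/-- the properties of a Sylow 2-subgroup of `U₃(2ⁿ)` that are used -/
structure IsUT (n : ℕ) (P : Type*) [Group P] : Prop where
  cen : ∀ z x : P, z * z = 1 → z * x = x * z
  four : ∀ x : P, x * x * (x * x) = 1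
  com : ∀ x y : P, x * y * x⁻¹ * y⁻¹ * (x * y * x⁻¹ * y⁻¹) = 1
  ab : ∀ x y w : P, x * x ≠ 1 → x * y = y * x → x * w = w * x → y * w = w * y
  root : ∀ x z : P, x * x ≠ 1 → z * z = 1 → ∃ y, x * y = y * x ∧ y * y = z
  cardZ : Nat.card {z : P // z * z = 1} = 2 ^ n
  card : Nat.card P = 8 ^ n

theorem IsUT.map {n : ℕ} {P P' : Type*} [Group P] [Group P'] (h : IsUT n P) (e : P ≃* P') : IsUT n P' := by
  have hs := e.surjective
  refine ⟨hs.forall₂.2 ?_, hs.forall.2 ?_, hs.forall₂.2 ?_, hs.forall₃.2 ?_, hs.forall₂.2 ?_, ?_, ?_⟩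
  · simpa only [← map_mul, e.injective.eq_iff, e.map_eq_one_iff] using h.cen
  · simpa only [← map_mul, e.map_eq_one_iff] using h.four
  · simpa only [← map_mul, ← map_inv, e.map_eq_one_iff] using h.com
  · simpa only [← map_mul, e.injective.eq_iff, Ne, e.map_eq_one_iff] using h.ab
  · simpa only [hs.exists, ← map_mul, e.injective.eq_iff, Ne, e.map_eq_one_iff] using h.root
  · rw [← h.cardZ]
    exact Nat.card_congr (e.toEquiv.subtypeEquiv fun a => by simp [← map_mul]).symm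
  · rw [← h.card, Nat.card_congr e.toEquiv]

variable {G : Type*} [Group G] [Finite G] {n : ℕ}

/-- Sylow 2-subgroups of type `U₃(2ⁿ)` -/
def TU (n : ℕ) (G : Type*) [Group G] : Prop := ∀ S : Subgroup G, IsSylowIn 2 S ⊤ → IsUT n S

theorem TU.of_one {S : Subgroup G} (hS : IsSylowIn 2 S ⊤) (h : IsUT n S) : TU n G := fun _ hT => by
  obtain ⟨k, -, rfl⟩ := hS.exists_conj hT
  exact h.map (S.equivMapOfInjective _ (MulAut.conj k).injective)

theorem TU.subgroup (h : TU n G) {S H : Subgroup G} (hS : IsSylowIn 2 S ⊤) (hle : S ≤ H) : TU n H := by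
  refine TU.of_one (S := S.subgroupOf H) ?_ ((h S hS).map (subgroupOfEquivOfLe hle).symm)
  rw [← subgroupOf_self]
  exact (isSylowIn_subgroupOf_iff hle le_rfl).2 (hS.mono hle le_top)

theorem TU.quot (h : TU n G) : TU n (G ⧸ oddCore G) := by
  obtain ⟨S, hS⟩ := exists_isSylowIn 2 (⊤ : Subgroup G)
  have h1 := hS.map (QuotientGroup.mk' (oddCore G))
  rw [← MonoidHom.range_eq_map, MonoidHom.range_eq_top.2 (QuotientGroup.mk'_surjective _)] at h1
  refine TU.of_one h1 ((h S hS).map (MulEquiv.ofBijective ((QuotientGroup.mk' (oddCore G)).subgroupMap S)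
    ((Nat.bijective_iff_surjective_and_card _).2 ⟨MonoidHom.subgroupMap_surjective _ _, ?_⟩)))
  refine (card_map_of_isPGroup_of_ker_coprime _ ?_ hS.isPGroup).symm
  rw [QuotientGroup.ker_mk']
  exact Nat.coprime_two_right.2 odd_card_oddCore

/-- `S` a Sylow 2-subgroup, `Z = Ω₁(S)` -/
structure US (n : ℕ) (S Z : Subgroup G) : Prop where
  tu : TU n G
  syl : IsSylowIn 2 S ⊤
  mem : ∀ {x}, x ∈ Z ↔ x ∈ S ∧ x * x = 1

omit [Finite G] in
theorem TU.exists_us (h : TU n G) {S : Subgroup G} (hS : IsSylowIn 2 S ⊤) : ∃ Z, US n S Z :=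
  ⟨⟨⟨⟨{x | x ∈ S ∧ x * x = 1}, fun {a b} ha hb => ⟨mul_mem ha.1 hb.1, by
      have : a * b = b * a := congrArg Subtype.val ((h S hS).cen ⟨a, ha.1⟩ ⟨b, hb.1⟩ (Subtype.ext ha.2))
      rw [mul_assoc, ← mul_assoc b, ← this, mul_assoc, hb.2, mul_one, ha.2]⟩⟩, one_mem _, mul_one 1⟩,
    fun {a} ha => ⟨inv_mem ha.1, by rw [← mul_inv_rev, ha.2, inv_one]⟩⟩, h, hS, Iff.rfl⟩

theorem TU.exists_ge (h : TU n G) {R : Subgroup G} (hR : IsPGroup 2 R) : ∃ S Z, R ≤ S ∧ US n S Z := by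
  obtain ⟨S, hS, hle⟩ := exists_isSylowIn_ge hR le_top
  obtain ⟨Z, hZ⟩ := h.exists_us hS
  exact ⟨S, Z, hle, hZ⟩

namespace US
variable {S Z : Subgroup G} (h : US n S Z)
include h

omit [Finite G] in
theorem ut : IsUT n S := h.tu S h.syl

omit [Finite G] in
theorem le : Z ≤ S := fun _ hx => (h.mem.1 hx).1

omit [Finite G] in
theorem sq_eq {z : G} (hz : z ∈ Z) : z * z = 1 := (h.mem.1 hz).2

omit [Finite G] in
theorem isPGroup : IsPGroup 2 Z := h.syl.isPGroup.to_le h.le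

omit [Finite G] in
theorem cen {z x : G} (hz : z ∈ Z) (hx : x ∈ S) : z * x = x * z :=
  congrArg Subtype.val (h.ut.cen ⟨z, h.le hz⟩ ⟨x, hx⟩ (Subtype.ext (h.sq_eq hz)))

omit [Finite G] in
theorem sq_mem {x : G} (hx : x ∈ S) : x * x ∈ Z :=
  h.mem.2 ⟨mul_mem hx hx, congrArg Subtype.val (h.ut.four ⟨x, hx⟩)⟩

omit [Finite G] in
theorem com_mem {x y : G} (hx : x ∈ S) (hy : y ∈ S) : x * y * x⁻¹ * y⁻¹ ∈ Z :=
  h.mem.2 ⟨mul_mem (mul_mem (mul_mem hx hy) (inv_mem hx)) (inv_mem hy),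
    congrArg Subtype.val (h.ut.com ⟨x, hx⟩ ⟨y, hy⟩)⟩

omit [Finite G] in
theorem ab {x y w : G} (hx : x ∈ S) (hy : y ∈ S) (hw : w ∈ S) (h1 : x * x ≠ 1) (h2 : x * y = y * x)
    (h3 : x * w = w * x) : y * w = w * y :=
  congrArg Subtype.val (h.ut.ab ⟨x, hx⟩ ⟨y, hy⟩ ⟨w, hw⟩ (fun e => h1 (congrArg Subtype.val e))
    (Subtype.ext h2) (Subtype.ext h3))

omit [Finite G] in
theorem root {x z : G} (hx : x ∈ S) (h1 : x * x ≠ 1) (hz : z ∈ Z) : ∃ y ∈ S, x * y = y * x ∧ y * y = z := by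
  obtain ⟨y, h2, h3⟩ := h.ut.root ⟨x, hx⟩ ⟨z, h.le hz⟩ (fun e => h1 (congrArg Subtype.val e))
    (Subtype.ext (h.sq_eq hz))
  exact ⟨y, y.2, congrArg Subtype.val h2, congrArg Subtype.val h3⟩

omit [Finite G] in
theorem card : Nat.card Z = 2 ^ n := by
  rw [← h.ut.cardZ]
  exact Nat.card_congr ⟨fun z => ⟨⟨z, h.le z.2⟩, Subtype.ext (h.sq_eq z.2)⟩,
    fun z => ⟨z.1, h.mem.2 ⟨z.1.2, congrArg Subtype.val z.2⟩⟩, fun _ => rfl, fun _ => rfl⟩

theorem exists_four (hn : 3 ≤ n) : ∃ x ∈ S, x * x ≠ 1 := by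
  by_contra hx
  push Not at hx
  have := card_le_of_le (show S ≤ Z from fun x hs => h.mem.2 ⟨hs, hx x hs⟩)
  rw [h.card, h.ut.card] at this
  exact absurd this (not_le.2 (Nat.pow_lt_pow_left (by norm_num) (by omega)))

theorem ext {R : Subgroup G} (hR : IsPGroup 2 R) (hZ : Z ≤ R) : ∃ S', R ≤ S' ∧ US n S' Z := by
  obtain ⟨S', Z', h1, h2⟩ := h.tu.exists_ge hR
  have : Z = Z' := eq_of_le_of_card_ge (fun z hz => h2.mem.2 ⟨h1 (hZ hz), h.sq_eq hz⟩)
    (by rw [h.card, h2.card])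
  exact ⟨S', h1, this ▸ h2⟩

theorem ext' {R : Subgroup G} (hR : IsPGroup 2 R) (hZ : R ≤ N[Z]) : ∃ S', R ≤ S' ∧ US n S' Z := by
  obtain ⟨S', h1, h2⟩ := h.ext (hR.to_sup_of_normal_right' h.isPGroup hZ) le_sup_right
  exact ⟨S', le_sup_left.trans h1, h2⟩

omit [Finite G] in
theorem conj (g : G) : US n (g •ᶜ S) (g •ᶜ Z) := by
  refine ⟨h.tu, h.syl.conj_of_mem_normalizer (le_normalizer (mem_top g)), fun {x} => ?_⟩
  rw [mem_map_conj, mem_map_conj, h.mem]
  refine and_congr_right fun _ => ?_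
  rw [show g⁻¹ * x * g * (g⁻¹ * x * g) = g⁻¹ * (x * x) * g⁻¹⁻¹ by group, conj_eq_one_iff]

end US

omit [Finite G] in
theorem isSolvable_C1_subtype {H : Subgroup G} (t : H) (h : Group.IsSolvable C1[(t : G)]) :
    Group.IsSolvable C1[t] := by
  have h2 : Group.IsSolvable (C1[t].map H.subtype) := isSolvable_of_le (by
    rintro _ ⟨x, hx, rfl⟩
    exact mem_C1.2 (congrArg Subtype.val (mem_C1.1 hx))) h
  exact Group.isSolvable_of_surjective
    (f := (C1[t].equivMapOfInjective _ H.subtype_injective).symm.toMonoidHom) (MulEquiv.surjective _)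

theorem TU.solv_four (hG : TU n G)
    (hC : ∀ t : G, orderOf t = 2 → t ∈ center G ∨ Group.IsSolvable C1[t]) {x : G}
    (hx : IsPGroup 2 (zpowers x)) (h1 : x * x ≠ 1) : Group.IsSolvable C1[x] := by
  obtain ⟨T, hT, h2⟩ := exists_isSylowIn_ge hx (zpowers_le.2 (mem_C1_self x))
  obtain ⟨S, Z, h3, h⟩ := hG.exists_ge hT.isPGroup
  have h4 : S ⊓ C1[x] = T :=
    hT.maximal _ (h.syl.isPGroup.to_le inf_le_left) inf_le_right (le_inf h3 hT.le)
  have hxS := h3 (h2 (mem_zpowers x))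
  refine solvable_of_squares (T := T.subgroupOf C1[x]) ?_ ⟨⟨fun a b => Subtype.ext (Subtype.ext
    (h.ab hxS (h3 a.2) (h3 b.2) h1 (mem_C1.1 a.1.2).symm (mem_C1.1 b.1.2).symm))⟩⟩ (fun a ha h5 => ?_)
    fun t ht => (hC t (by rw [orderOf_coe, ht])).imp
      (fun h : (t : G) ∈ center G => mem_center_iff.2 fun g => Subtype.ext (mem_center_iff.1 h g))
      (isSolvable_C1_subtype t)
  · rw [← subgroupOf_self]
    exact (isSylowIn_subgroupOf_iff hT.le le_rfl).2 hT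
  · obtain ⟨y, hy, h6, h7⟩ := h.root hxS h1 (h.mem.2 ⟨h3 ha, congrArg Subtype.val h5⟩)
    exact ⟨⟨y, mem_C1.2 h6.symm⟩, h4.le ⟨hy, mem_C1.2 h6.symm⟩, Subtype.ext h7⟩

/-- a central quotient in which the cores of the involution centralizers are killed -/
structure Cq (n : ℕ) (Z : Subgroup G) {G' : Type*} [Group G'] (f : G →* G') : Prop where
  hn : 3 ≤ n
  us : ∃ S, US n S Z
  surj : Function.Surjective f
  le : f.ker ≤ Z
  cen : f.ker ≤ center G
  core : pPrimeCore 2 G' = ⊥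
  solv : ∀ a : G, orderOf a = 2 → a ∈ f.ker ∨ Group.IsSolvable C1[a]

namespace Cq
variable {Z : Subgroup G} {G' : Type*} [Group G'] [Finite G'] {f : G →* G'} (h : Cq n Z f)
include h

omit [Finite G'] in
theorem isPGroup {R : Subgroup G'} (hR : IsPGroup 2 R) : IsPGroup 2 (R.comap f) := by
  obtain ⟨S, hS⟩ := h.us
  exact hR.comap_of_ker_isPGroup f (hS.isPGroup.to_le h.le)

omit [Finite G'] in
theorem isPGroup_zpowers {x : G} (hx : orderOf (f x) = 2) : IsPGroup 2 (zpowers x) :=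
  (h.isPGroup (isPGroup_zpowers_of_orderOf hx)).to_le (zpowers_le.2 (mem_zpowers _))

omit [Finite G'] in
theorem solv_C1 {t : G'} (ht : orderOf t = 2) : Group.IsSolvable C1[t] := by
  obtain ⟨x, rfl⟩ := h.surj t
  obtain ⟨S, hS⟩ := h.us
  have h1 : Group.IsSolvable C1[x] := by
    by_cases hx : x * x = 1
    · refine (h.solv x (BSW.orderOf_two_of_mul_self (fun e => ?_) hx)).resolve_left
        (BSW.ne_one_of_orderOf_two ht)
      rw [e, map_one] at ht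
      exact BSW.ne_one_of_orderOf_two ht rfl
    · exact hS.tu.solv_four (fun a ha => (h.solv a ha).imp_left fun e => h.cen e) (h.isPGroup_zpowers ht) hx
  have h2 : ⁅C1[f x].comap f, C1[f x].comap f⁆ ≤ C1[x] := by
    refine commutator_le.2 fun a ha b hb => mem_C1.2 ?_
    have key : ∀ c ∈ C1[f x].comap f, ∀ g, g * (x⁻¹ * c * x * c⁻¹) = x⁻¹ * c * x * c⁻¹ * g := fun c hc =>
      mem_center_iff.1 (h.cen (by
        rw [MonoidHom.mem_ker]
        simp only [map_mul, map_inv]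
        rw [mul_assoc (f x)⁻¹, mem_C1.1 hc]
        group))
    have k1 := key a ha
    have k2 := key b hb
    have e1 : a * x = x * (x⁻¹ * a * x * a⁻¹) * a := by group
    have e2 : b * x = x * (x⁻¹ * b * x * b⁻¹) * b := by group
    generalize x⁻¹ * a * x * a⁻¹ = u at *
    generalize x⁻¹ * b * x * b⁻¹ = v at *
    have e3 : a * b * x = x * (u * v) * (a * b) := by
      rw [mul_assoc, e2, ← mul_assoc, ← mul_assoc, e1, mul_assoc _ a v, k2 a]; group
    have e4 : b * a * x = x * (u * v) * (b * a) := by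
      rw [mul_assoc, e1, ← mul_assoc, ← mul_assoc, e2, mul_assoc _ b u, k1 b, k2 u]; group
    have e5 : (b * a)⁻¹ * x * (u * v) = x * (b * a)⁻¹ := by
      rw [eq_mul_inv_iff_mul_eq, mul_assoc, mul_assoc, ← mul_assoc x, ← e4]; group
    have e6 : ∀ g, g * (u * v) = u * v * g := fun g => by rw [← mul_assoc, k1, mul_assoc, k2, mul_assoc]
    rw [commutatorElement_def, mul_assoc (a * b), ← mul_inv_rev]
    refine mul_right_cancel (b := u * v) ?_
    rw [mul_assoc (a * b), mul_assoc (a * b), e5, ← mul_assoc, e3, mul_assoc x (a * b * _), e6 (a * b * _)]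
    group
  have h3 : Group.IsSolvable (C1[f x].comap f) := by
    refine isSolvable_of_normal_quotient (commutator _) ?_ (Group.isSolvable_of_comm
      fun a b => mul_comm (G := Abelianization _) a b)
    have := isSolvable_of_le h2 h1
    rw [← map_subtype_commutator] at this
    exact Group.isSolvable_of_surjective (f := ((commutator _).equivMapOfInjective _
      (C1[f x].comap f).subtype_injective).symm.toMonoidHom) (MulEquiv.surjective _)
  rw [← map_comap_eq_self_of_surjective h.surj C1[f x]]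
  exact Group.isSolvable_of_surjective (f.subgroupMap_surjective _)

theorem rank {t : G'} (ht : orderOf t = 2) : ¬ PRankLE 2 2 C1[t] := by
  obtain ⟨x, rfl⟩ := h.surj t
  obtain ⟨S0, hS0⟩ := h.us
  obtain ⟨S, Z', h1, hS⟩ := hS0.tu.exists_ge
    ((h.isPGroup_zpowers ht).to_sup_of_normal_right (hS0.isPGroup.to_le h.le))
  have hk : f.ker ≤ Z' := fun z hz => hS.mem.2 ⟨h1 (mem_sup_right hz), hS0.sq_eq (h.le hz)⟩
  have hx := h1 (mem_sup_left (mem_zpowers x))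
  obtain ⟨y, hy, h2, h3⟩ : ∃ y ∈ S, y * y ≠ 1 ∧ y * x = x * y := by
    by_cases h2 : x * x = 1
    · obtain ⟨y, hy, h3⟩ := hS.exists_four h.hn
      exact ⟨y, hy, h3, (hS.cen (hS.mem.2 ⟨hx, h2⟩) hy).symm⟩
    · exact ⟨x, hx, h2, rfl⟩
  have hab : ∀ {a b}, a ∈ S ⊓ C1[y] → b ∈ S ⊓ C1[y] → a * b = b * a := fun ha hb =>
    hS.ab hy ha.1 hb.1 h2 (mem_C1.1 ha.2).symm (mem_C1.1 hb.2).symm
  let B : Subgroup G := ⟨⟨⟨{u | u ∈ S ⊓ C1[y] ∧ u * u ∈ f.ker}, fun {a b} ha hb => ⟨mul_mem ha.1 hb.1, by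
      rw [mul_assoc, ← mul_assoc b, ← hab ha.1 hb.1, mul_assoc, ← mul_assoc]
      exact mul_mem ha.2 hb.2⟩⟩, one_mem _, by simp⟩,
    fun {a} ha => ⟨inv_mem ha.1, by rw [← mul_inv_rev]; exact inv_mem ha.2⟩⟩
  have hZB : Z' ≤ B := fun z hz => ⟨⟨hS.le hz, mem_C1.2 (hS.cen hz hy)⟩, by rw [hS.sq_eq hz]; simp⟩
  choose r hr using fun z : f.ker => hS.root hy h2 (hk z.2)
  have hrB : ∀ z, r z ∈ B := fun z => ⟨⟨(hr z).1, mem_C1.2 (hr z).2.1.symm⟩, (hr z).2.2 ▸ z.2⟩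
  have h4 : Nat.card (Z' × f.ker) ≤ Nat.card B := Nat.card_le_card_of_injective
    (fun p => ⟨p.1 * r p.2, mul_mem (hZB p.1.2) (hrB _)⟩) fun p q e => by
      have e1 : (p.1 : G) * r p.2 = q.1 * r q.2 := congrArg Subtype.val e
      have key : ∀ p : Z' × f.ker, (p.1 : G) * r p.2 * (p.1 * r p.2) = p.2 := fun p => by
        rw [mul_assoc, ← mul_assoc (r _), ← hS.cen p.1.2 (hr _).1, mul_assoc, ← mul_assoc, hS.sq_eq p.1.2,
          one_mul, (hr _).2.2]
      have e2 : p.2 = q.2 := Subtype.ext (by rw [← key, e1, key])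
      rw [e2] at e1
      exact Prod.ext (Subtype.ext (mul_right_cancel e1)) e2
  rw [Nat.card_prod, hS.card, ← relIndex_mul_card (hk.trans hZB), relIndex_ker] at h4
  have h5 : B.map f ≤ C1[f x] := by
    rintro _ ⟨b, hb, rfl⟩
    exact mem_C1.2 (by rw [← map_mul, hab hb.1 ⟨hx, mem_C1.2 h3.symm⟩, map_mul])
  refine not_pRankLE_iff.2 ⟨(B.map f).subgroupOf _, elemAb_subgroupOf ⟨?_, ?_⟩ _, ?_⟩
  · have : IsMulCommutative B := ⟨⟨fun a b => Subtype.ext (hab a.2.1 b.2.1)⟩⟩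
    exact map_isMulCommutative _ _
  · rintro _ ⟨b, hb, rfl⟩
    rw [sq, ← map_mul]
    exact hb.2
  · rw [Nat.card_congr (subgroupOfEquivOfLe h5).toEquiv]
    exact (Nat.pow_le_pow_right two_pos h.hn).trans (Nat.le_of_mul_le_mul_right h4 Nat.card_pos)

theorem char_two {t : G'} (ht : orderOf t = 2) : C1[t] ⊓ C[piCoreOf {2} C1[t]] ≤ piCoreOf {2} C1[t] := by
  have h1 := core_eq_bot_of_e8 h.core (fun t ht => isPConstrained_of_isSolvable (h.solv_C1 ht))
    (fun t ht => h.rank ht) ht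
  rw [centralizerPPrimeCore_eq] at h1
  have h2 := ppCoreOf_eq_of_eq_bot h1
  have := bg1_15a (h.solv_C1 ht) (P := piCoreOf {2} C1[t]) (p := 2) (by
    rw [h2]; exact ⟨le_rfl, isPGroup_piCoreOf_singleton 2 _, fun _ _ h3 h4 => le_antisymm h3 h4⟩)
  rwa [h2] at this

theorem le_normalizer_Z {t : G'} (ht : orderOf t = 2) (hZ : Z.map f ≤ C1[t]) : C1[t].comap f ≤ N[Z] := by
  obtain ⟨S0, hS0⟩ := h.us
  have hR := h.isPGroup (isPGroup_piCoreOf_singleton 2 C1[t])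
  have hn : C1[t].comap f ≤ N[(piCoreOf {2} C1[t]).comap f] :=
    (comap_mono (le_normalizer_piCoreOf _ _)).trans (le_normalizer_comap f)
  obtain ⟨S, h1, hS⟩ := hS0.ext (hS0.isPGroup.to_sup_of_normal_right' hR
    ((map_le_iff_le_comap.1 hZ).trans hn)) le_sup_left
  have h2 : Z ≤ (piCoreOf {2} C1[t]).comap f := fun z hz => h.char_two ht ⟨hZ (mem_map_of_mem f hz),
    mem_centralizer_iff.2 fun r hr => by
      obtain ⟨r, rfl⟩ := h.surj r
      rw [← map_mul, ← hS.cen hz (h1 (mem_sup_right hr)), map_mul]⟩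
  intro g hg
  rw [← conj_eq_iff_mem_normalizer]
  refine eq_of_le_of_card_ge ?_ (by rw [card_conj])
  rintro _ ⟨z, hz, rfl⟩
  exact hS.mem.2 ⟨h1 (mem_sup_right ((mem_normalizer_iff.1 (hn hg) z).1 (h2 hz))), by
    rw [← map_mul, hS.sq_eq hz, map_one]⟩

omit [Finite G'] in
theorem map_le_C1 {x : G} (ht : orderOf (f x) = 2) (hx : x ∈ N[Z]) : Z.map f ≤ C1[f x] := by
  obtain ⟨S0, hS0⟩ := h.us
  obtain ⟨S, h1, hS⟩ := hS0.ext' (h.isPGroup_zpowers ht) (zpowers_le.2 hx)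
  rintro _ ⟨z, hz, rfl⟩
  exact mem_C1.2 (by rw [← map_mul, hS.cen hz (h1 (mem_zpowers x)), map_mul])

theorem se (h1 : ¬ Z ≤ f.ker) (h2 : N[Z] ≠ ⊤) : IsStronglyEmbedded (N[Z].map f) := by
  obtain ⟨S0, hS0⟩ := h.us
  have hk : f.ker ≤ N[Z] := h.le.trans le_normalizer
  refine ⟨fun e => h2 (by rw [← comap_map_eq_self hk, e, comap_top]), ?_, fun g hg => ?_⟩
  · obtain ⟨z, hz, h3⟩ := SetLike.not_le_iff_exists.1 h1
    exact even_iff_two_dvd.2 (BSW.orderOf_two_of_mul_self h3 (by rw [← map_mul, hS0.sq_eq hz, map_one]) ▸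
      Subgroup.orderOf_dvd_natCard _ (mem_map_of_mem f (le_normalizer hz)))
  refine Bender.odd_card_of_forall fun _ hu hi => hg ?_
  obtain ⟨⟨x, hx, rfl⟩, _, ⟨y, hy, rfl⟩, e⟩ := hu
  obtain ⟨g, rfl⟩ := h.surj g
  have ht := hi.orderOf_eq
  have e' : f g * f y * (f g)⁻¹ = f x := e
  have ht' : orderOf (f y) = 2 := by rw [← ht, ← e', sm_orderOf_conj]
  have h3 := h.le_normalizer_Z ht (h.map_le_C1 ht hx)
  have h4 : g •ᶜ Z ≤ N[Z] := by
    rintro _ ⟨z, hz, rfl⟩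
    refine h3 (mem_C1.2 ?_)
    have := mem_C1.1 (h.map_le_C1 ht' hy (mem_map_of_mem f hz))
    change f (g * z * g⁻¹) * _ = _ * f (g * z * g⁻¹)
    rw [← e', map_mul, map_mul, map_inv, conj_mul, conj_mul, this]
  obtain ⟨S, h5, hS⟩ := hS0.ext' (hS0.conj g).isPGroup h4
  exact mem_map_of_mem f (conj_eq_iff_mem_normalizer.1 (eq_of_le_of_card_ge
    (fun z hz => hS.mem.2 ⟨h5 hz, (hS0.conj g).sq_eq hz⟩) (by rw [card_conj])))

theorem ker_eq_bot (h1 : ¬ Z ≤ f.ker) (h2 : N[Z] ≠ ⊤) : f.ker = ⊥ := by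
  by_contra h3
  obtain ⟨S, hS⟩ := h.us
  obtain ⟨⟨c, hc⟩, h4⟩ := ne_bot_iff_exists_ne_one.1 h3
  have h5 : c ≠ 1 := fun e => h4 (Subtype.ext e)
  obtain ⟨z, hz, h6⟩ := SetLike.not_le_iff_exists.1 h1
  obtain ⟨x, hx, h7⟩ := hS.exists_four h.hn
  obtain ⟨y, hy, -, rfl⟩ := hS.root hx h7 (h.le hc)
  obtain ⟨g, e⟩ := exists_conj_of_se (h.se h1 h2) (u := f z) (v := f y)
    (BSW.orderOf_two_of_mul_self h6 (by rw [← map_mul, hS.sq_eq hz, map_one]))
    (BSW.orderOf_two_of_mul_self (fun e => h5 (hS.sq_eq (h.le e))) (by rw [← map_mul]; exact hc))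
  obtain ⟨g, rfl⟩ := h.surj g
  have h8 : y * (g * z * g⁻¹)⁻¹ ∈ f.ker := by simp [MonoidHom.mem_ker, ← e]
  have h9 := mem_center_iff.1 (h.cen h8)
  have h10 := hS.sq_eq (h.le h8)
  have h11 : g * z * g⁻¹ * (g * z * g⁻¹) = 1 := by rw [conj_mul, hS.sq_eq hz]; simp
  generalize g * z * g⁻¹ = w at *
  have h12 : y = y * w⁻¹ * w := by simp
  generalize y * w⁻¹ = d at *
  exact h5 (by rw [h12, mul_assoc, ← mul_assoc w, h9, mul_assoc, h11, mul_one, h10])

theorem normal_of_ker_eq (h1 : Z ≤ f.ker) {S : Subgroup G} (hS : US n S Z) : S.Normal := by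
  by_contra hn
  have hk : f.ker ≤ S := h.le.trans hS.le
  have hV := hS.syl.map f
  rw [← MonoidHom.range_eq_map, MonoidHom.range_eq_top.2 h.surj] at hV
  have hc : IsMulCommutative (S.map f) := ⟨⟨by
    rintro ⟨_, a, ha, rfl⟩ ⟨_, b, hb, rfl⟩
    have := h1 (hS.com_mem ha hb)
    simp only [MonoidHom.mem_ker, map_mul, map_inv, mul_inv_eq_iff_eq_mul, one_mul] at this
    exact Subtype.ext this⟩⟩
  have key : ∀ P : Subgroup G', IsSylowIn 2 P ⊤ → ∀ t ∈ P, orderOf t = 2 → P = piCoreOf {2} C1[t] := by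
    intro P hP t htP ht
    obtain ⟨k, -, rfl⟩ := hV.exists_conj hP
    have hcm : IsMulCommutative (k •ᶜ (S.map f) : Subgroup G') := isMulCommutative_conj_iff.2 hc
    have h2 := le_centralizer_singleton_of_comm hcm htP
    have h3 := (hP.mono h2 le_top).le_of_normalizes (isPGroup_piCoreOf_singleton 2 C1[t]) (piCoreOf_le _ _)
      (h2.trans (le_normalizer_piCoreOf _ _))
    exact le_antisymm ((le_inf h2 ((le_centralizer_iff_isMulCommutative.2 hcm).trans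
      (centralizer_le h3))).trans (h.char_two ht)) h3
  obtain ⟨x, hx, h2⟩ := hS.exists_four h.hn
  have ho : ∀ y ∈ S, y * y ≠ 1 → orderOf (f y) = 2 := fun y hy h3 =>
    BSW.orderOf_two_of_mul_self (fun e => h3 (hS.sq_eq (h.le e))) (by rw [← map_mul]; exact h1 (hS.sq_mem hy))
  have hM := stronglyEmbedded_of_ti (fun P Q hP hQ hne => by
    by_contra hb
    obtain ⟨t, ht, ht2⟩ := exists_mem_orderOf_eq_of_dvd
      (dvd_card_of_isPGroup_of_ne_bot (hP.isPGroup.to_le inf_le_left) hb)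
    exact hne ((key P hP t ht.1 ht2).trans (key Q hQ t ht.2 ht2).symm)) hV
    (fun e => BSW.ne_one_of_orderOf_two (ho x hx h2) (mem_bot.1 (e ▸ mem_map_of_mem f hx))) fun e => hn (by
      have := normalizer_eq_top_iff.1 e
      rw [← comap_map_eq_self hk]
      infer_instance)
  obtain ⟨z, hz, h3⟩ : ∃ z ∈ Z, z ∉ ({1, x * x} : Set G) := by
    by_contra h3
    push Not at h3
    have h4 := (Set.ncard_le_ncard (s := (Z : Set G)) h3).trans (Set.ncard_pair h2.symm).le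
    have h5 : (Z : Set G).ncard = 2 ^ n := hS.card
    have := Nat.pow_le_pow_right two_pos h.hn
    omega
  simp only [Set.mem_insert_iff, Set.mem_singleton_iff, not_or] at h3
  obtain ⟨y, hy, -, rfl⟩ := hS.root hx h2 hz
  obtain ⟨g, e⟩ := exists_conj_of_se hM (ho x hx h2) (ho y hy h3.1)
  obtain ⟨g, rfl⟩ := h.surj g
  have h8 : y * (g * x * g⁻¹)⁻¹ ∈ f.ker := by simp [MonoidHom.mem_ker, ← e]
  have h9 := mem_center_iff.1 (h.cen h8)
  have h10 := hS.sq_eq (h.le h8)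
  have h11 : g * x * g⁻¹ * (g * x * g⁻¹) = x * x := by
    rw [conj_mul, mem_center_iff.1 (h.cen (h1 (hS.sq_mem hx))) g]; simp
  generalize g * x * g⁻¹ = w at *
  have h12 : y = y * w⁻¹ * w := by simp
  generalize y * w⁻¹ = d at *
  exact h3.2 (by rw [h12, mul_assoc, ← mul_assoc w, h9, mul_assoc, h11, ← mul_assoc, h10, one_mul])

end Cq

end Cfsg.Lib.UT
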